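import Mathlib
import Cfsg.Agent.CoOneType.CoOneE
import Cfsg.Agent.SporadicA.DodecadWalk
import Cfsg.Agent.S0365
import Cfsg.Agent.FastGrp
import Cfsg.Agent.Prune
set_option linter.all false
prune_inst 0x7f00000000000000000000000000000000000000000000000000000000000000000000000000000000000000000000000000000000000000000000000000000000000000000000000000000000000000003fffffffffffffffffffffffffffbeffbdffffffff
open scoped Cfsg.Agent.FastGrp

-- part: H682/EB/Loc
section
/-!
# S4522: a real element of prime order commuting with an involution with constrained centralizer (helper682)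

`Loc r G`; `Loc.congr`.
-/

set_option autoImplicit false

namespace Cfsg.Agent.H682.EB

open Subgroup

universe u v

/-- a real element `y` of order `r`, an involution `x` commuting with `y`, a normal 2-subgroup `E` of `C(x)` with
`C(x) ∩ C(E) ≤ E` -/
structure Loc (r : ℕ) (G : Type u) [Group G] : Prop where
  ex : ∃ (y x : G) (E : Subgroup G), orderOf y = r ∧ IsConj y y⁻¹ ∧ orderOf x = 2 ∧ x * y = y * x ∧ IsPGroup 2 E ∧
    (∀ e ∈ E, e * x = x * e) ∧ (∀ c, c * x = x * c → ∀ e ∈ E, c * e * c⁻¹ ∈ E) ∧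
    (∀ c, c * x = x * c → (∀ e ∈ E, c * e = e * c) → c ∈ E)

theorem Loc.congr {r : ℕ} {G : Type u} {H : Type v} [Group G] [Group H] (f : G ≃* H) (h : Loc r G) : Loc r H := by
  obtain ⟨y, x, E, hy, hr, hx, hxy, hE, h1, h2, h3⟩ := h.ex
  have key : ∀ (c : H) (a : G), c * f a = f a * c → f.symm c * a = a * f.symm c := by
    intro c a hc
    apply f.injective
    rw [map_mul, map_mul, MulEquiv.apply_symm_apply, hc]
  refine ⟨f y, f x, E.map f.toMonoidHom, ?_, ?_, ?_, ?_, hE.map _, ?_, ?_, ?_⟩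
  · rw [MulEquiv.orderOf_eq, hy]
  · have := f.toMonoidHom.map_isConj hr
    rwa [map_inv] at this
  · rw [MulEquiv.orderOf_eq, hx]
  · rw [← map_mul, hxy, map_mul]
  · rintro _ ⟨e, he, rfl⟩
    show f e * f x = f x * f e
    rw [← map_mul, h1 e he, map_mul]
  · rintro c hc _ ⟨e, he, rfl⟩
    refine ⟨f.symm c * e * (f.symm c)⁻¹, h2 _ (key c x hc) e he, ?_⟩
    show f (f.symm c * e * (f.symm c)⁻¹) = c * f e * c⁻¹
    rw [map_mul, map_mul, map_inv, MulEquiv.apply_symm_apply]
  · intro c hc hE'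
    refine ⟨f.symm c, h3 _ (key c x hc) (fun e he => key c e ?_), ?_⟩
    · exact hE' (f e) ⟨e, he, rfl⟩
    · exact f.apply_symm_apply c

section

variable {r : ℕ} {G : Type u} [Group G] [Finite G]

theorem exists_conj_pow (hp : r.Prime) (h2 : ¬ r ^ 2 ∣ Nat.card G) {x y : G} (hx : orderOf x = r) (hy : orderOf y = r) :
    ∃ (g : G) (n : ℕ), x = (g * y * g⁻¹) ^ n := by
  have hpf := Fact.mk hp
  have h1 : ∀ {a : G}, orderOf a = r → ∃ P : Sylow r G, (P : Subgroup G) = zpowers a := by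
    intro a ha
    have h3 : IsPGroup r (zpowers a) := IsPGroup.of_card (n := 1) (by rw [Nat.card_zpowers, ha, pow_one])
    obtain ⟨P, hP⟩ := h3.exists_le_sylow
    refine ⟨P, ?_⟩
    symm
    refine Subgroup.eq_of_le_of_card_ge hP ?_
    rw [Nat.card_zpowers, ha]
    obtain ⟨k, hk⟩ := IsPGroup.iff_card.1 P.isPGroup'
    rw [hk]
    rcases Nat.lt_or_ge k 2 with h4 | h4
    · calc r ^ k ≤ r ^ 1 := Nat.pow_le_pow_right hp.pos (by omega)
        _ = r := pow_one r
    · exfalso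
      apply h2
      refine (pow_dvd_pow r h4).trans ?_
      rw [← hk]
      exact Subgroup.card_subgroup_dvd_card _
  obtain ⟨P, hP⟩ := h1 hx
  obtain ⟨Q, hQ⟩ := h1 hy
  obtain ⟨g, hg⟩ := MulAction.exists_smul_eq G Q P
  have h3 : x ∈ (P : Subgroup G) := by rw [hP]; exact mem_zpowers x
  rw [← hg] at h3
  have h4 : x ∈ (Q : Subgroup G).map (MulAut.conj g).toMonoidHom := h3
  obtain ⟨b, hb, hbx⟩ := h4
  rw [SetLike.mem_coe, hQ] at hb
  obtain ⟨n, hn⟩ := mem_powers_iff_mem_zpowers.2 hb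
  refine ⟨g, n, ?_⟩
  rw [← hbx, ← hn]
  show g * y ^ n * g⁻¹ = _
  rw [conj_pow]

/-- if one element of order divisible by `r` is real, then all elements of order `r` are real -/
theorem real_of (hp : r.Prime) (h2 : ¬ r ^ 2 ∣ Nat.card G) {w : G} (hw : r ∣ orderOf w) (hr : IsConj w w⁻¹) {y : G}
    (hy : orderOf y = r) : IsConj y y⁻¹ := by
  obtain ⟨g, n, hn⟩ := exists_conj_pow hp h2 hy (orderOf_pow_orderOf_div (orderOf_pos w).ne' hw)
  have h3 : ∀ m : ℕ, IsConj (w ^ m) (w ^ m)⁻¹ := by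
    intro m
    obtain ⟨c, hc⟩ := isConj_iff.1 hr
    rw [isConj_iff]
    refine ⟨c, ?_⟩
    rw [← conj_pow, hc, inv_pow]
  have h4 : y = g * (w ^ (orderOf w / r * n)) * g⁻¹ := by
    rw [hn, conj_pow, ← pow_mul]
  rw [h4]
  have h5 : (g * (w ^ (orderOf w / r * n)) * g⁻¹)⁻¹ = g * (w ^ (orderOf w / r * n))⁻¹ * g⁻¹ := by group
  rw [h5]
  exact ((isConj_iff.2 ⟨g, rfl⟩ : IsConj _ _).symm.trans (h3 _)).trans (isConj_iff.2 ⟨g, rfl⟩)

/-- the criterion for groups of order divisible by `r` exactly once -/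
theorem loc_of (hp : r.Prime) (h2 : ¬ r ^ 2 ∣ Nat.card G) {w : G} (hw : r ∣ orderOf w) (hr : IsConj w w⁻¹) {x : G}
    (hx : orderOf x = 2) (hd : r ∣ Nat.card (centralizer ({x} : Set G))) (E : Subgroup G) (hE : IsPGroup 2 E)
    (h3 : ∀ e ∈ E, e * x = x * e) (h4 : ∀ c, c * x = x * c → ∀ e ∈ E, c * e * c⁻¹ ∈ E)
    (h5 : ∀ c, c * x = x * c → (∀ e ∈ E, c * e = e * c) → c ∈ E) : Loc r G := by
  have hpf := Fact.mk hp
  obtain ⟨y, hy⟩ := exists_prime_orderOf_dvd_card' r hd
  have hy' : orderOf (y : G) = r := by rw [Subgroup.orderOf_coe, hy]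
  exact ⟨y, x, E, hy', real_of hp h2 hw hr hy', hx, (mem_centralizer_singleton_iff.1 y.2).symm, hE, h3, h4, h5⟩

end

end Cfsg.Agent.H682.EB
end

-- part: H682/EB/CoOneLoc
section
/-!
# S4522: `Loc 11` for `Co1` (helper682)

The centralizer of a sign change on a dodecad is `2^11.M₁₂.2`; the multiplication by 2 has order 11 and is real.
-/

set_option autoImplicit false

namespace Cfsg.Agent.H682.EB.CoOne

open Subgroup
open Cfsg
open Cfsg.Agent.CoOneType.CoOneE
open Cfsg.Agent.CoOneType.SignFacts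
open Cfsg.Agent.SporadicA.Co0Mono
open Cfsg.Agent.SporadicA.Co1Simple
open Cfsg.Agent.SporadicA.GolayWalk (idx mem_M24_of_table)
open Cfsg.Agent.SporadicA.DodecadWalk (projInv_mem_M24)

universe u

/-! ### the multiplication by 2 -/

def dblFun : GolayPt → GolayPt
  | none => none
  | some x => some (2 * x)

def halfFun : GolayPt → GolayPt
  | none => none
  | some x => some (12 * x)

def dblPerm : Equiv.Perm GolayPt where
  toFun := dblFun
  invFun := halfFun
  left_inv := by decide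
  right_inv := by decide

def tabDbl : List ℕ :=
  [0, 2, 4, 6, 8, 10, 12, 14, 16, 18, 20, 22, 1, 3, 5, 7, 9, 11, 13, 15, 17, 19, 21, 23]

theorem tabDbl_spec : ∀ p : GolayPt, tabDbl.getD (idx p) 0 = idx (dblPerm p) := by
  decide +kernel

theorem dblPerm_mem : dblPerm ∈ M24 :=
  mem_M24_of_table dblPerm tabDbl rfl tabDbl_spec (by decide +kernel)

def dbl : M24 := ⟨dblPerm, dblPerm_mem⟩

def inv24 : M24 := ⟨projInv, projInv_mem_M24⟩

theorem dbl_pow : dbl ^ 11 = 1 := by
  apply Subtype.ext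
  ext1 p
  revert p
  show ∀ p : GolayPt, (dblPerm ^ 11) p = p
  decide +kernel

theorem inv_dbl : inv24 * dbl * inv24⁻¹ = dbl⁻¹ := by
  rw [mul_inv_eq_iff_eq_mul, eq_comm, inv_mul_eq_iff_eq_mul]
  apply Subtype.ext
  ext1 p
  revert p
  show ∀ p : GolayPt, projInv p = dblPerm (projInv (dblPerm p))
  decide +kernel

theorem wordPerm_dbl : wordPerm dbl (q 0) = q 0 := by
  apply Subtype.ext
  funext p
  revert p
  show ∀ p : GolayPt, qrWord 0 (halfFun p) = qrWord 0 p
  decide +kernel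

theorem wt_q0 : wt (q 0) = 12 := by
  show (support₂ (qrWord 0)).card = 12
  decide

theorem exists_ne : ∃ p : GolayPt, qrWord 1 (halfFun p) ≠ qrWord 1 p := by
  decide +kernel

theorem exists_eq : ∃ p : GolayPt, qrWord 1 (halfFun p) = qrWord 1 p := by
  decide +kernel

/-! ### the action on `E` -/

/-- the elements of `M24` whose images centralise `E` -/
def K : Subgroup M24 := (centralizer (E : Set Spor.Co1)).comap (pr.comp permCo0)

theorem mem_K (σ : M24) : σ ∈ K ↔ ∀ c : golayCode, wordPerm σ c = c ∨ wordPerm σ c = c + allOne := by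
  constructor
  · intro h c
    have h1 := mem_centralizer_iff.1 (mem_comap.1 h) (pr (signCo0 c)) ⟨c, rfl⟩
    have h2 : pr (signCo0 c) = pr (signCo0 (wordPerm σ c)) := by
      simp only [← perm_mul_sign_mul_inv, map_mul, map_mul, map_inv, eq_mul_inv_iff_mul_eq]
      exact h1
    exact (pr_sign_eq_iff _ _).1 h2
  · intro h
    refine mem_comap.2 (mem_centralizer_iff.2 ?_)
    rintro _ ⟨c, rfl⟩
    have h2 := (pr_sign_eq_iff c (wordPerm σ c)).2 (h c)
    simp only [← perm_mul_sign_mul_inv, map_mul, map_mul, map_inv, eq_mul_inv_iff_mul_eq] at h2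
    exact h2

theorem conj_mem_E (g : M24) (e : Spor.Co1) (he : e ∈ E) :
    pr (permCo0 g) * e * (pr (permCo0 g))⁻¹ ∈ E := by
  obtain ⟨c, rfl⟩ := he
  exact ⟨wordPerm g c, by simp only [← perm_mul_sign_mul_inv, map_mul, map_mul, map_inv]⟩

theorem K_normal : K.Normal := by
  refine ⟨fun k hk g => ?_⟩
  refine mem_comap.2 (mem_centralizer_iff.2 fun e he => ?_)
  have h1 := conj_mem_E g⁻¹ e he
  have h2 := mem_centralizer_iff.1 (mem_comap.1 hk) _ h1
  have h3 : (pr.comp permCo0) k = pr (permCo0 k) := rfl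
  have h4 : (pr.comp permCo0) (g * k * g⁻¹) = pr (permCo0 g) * pr (permCo0 k) * (pr (permCo0 g))⁻¹ := by
    simp only [map_mul, map_mul, map_inv]
    rfl
  rw [h3] at h2
  rw [h4]
  simp only [map_inv, map_inv, inv_inv] at h2
  calc e * (pr (permCo0 g) * pr (permCo0 k) * (pr (permCo0 g))⁻¹)
      = pr (permCo0 g) * ((pr (permCo0 g))⁻¹ * e * pr (permCo0 g) * pr (permCo0 k)) * (pr (permCo0 g))⁻¹ := by group
    _ = pr (permCo0 g) * (pr (permCo0 k) * ((pr (permCo0 g))⁻¹ * e * pr (permCo0 g))) * (pr (permCo0 g))⁻¹ := by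
      rw [h2]
    _ = _ := by group

theorem dbl_not_mem : dbl ∉ K := by
  intro h
  have h1 : ∀ p : GolayPt, (wordPerm dbl (q 1) : GolayPt → ZMod 2) p = qrWord 1 (halfFun p) := fun _ => rfl
  have h2 : ∀ p : GolayPt, ((q 1 : golayCode) : GolayPt → ZMod 2) p = qrWord 1 p := fun _ => rfl
  rcases (mem_K dbl).1 h (q 1) with h3 | h3
  · obtain ⟨p, hp⟩ := exists_ne
    apply hp
    rw [← h1, h3, h2]
  · obtain ⟨p, hp⟩ := exists_eq
    rw [← h1, h3] at hp
    have h4 : ((q 1 + allOne : golayCode) : GolayPt → ZMod 2) p = qrWord 1 p + 1 := rfl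
    rw [h4] at hp
    simp at hp

theorem K_eq_bot : K = ⊥ := by
  have hs := Cfsg.Agent.S0365.result
  have hn := K_normal
  rcases IsSimpleGroup.eq_bot_or_eq_top_of_normal K hn with h | h
  · exact h
  · exact absurd (h ▸ mem_top dbl) dbl_not_mem

theorem self_cent (c : Spor.Co1) (hc : c * pr (signCo0 (q 0)) = pr (signCo0 (q 0)) * c)
    (h : ∀ e ∈ E, c * e = e * c) : c ∈ E := by
  obtain ⟨g, hg, rfl⟩ := centralizer_dodecad_le (q 0) wt_q0 (mem_centralizer_singleton_iff.2 hc)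
  obtain ⟨a, ρ, rfl⟩ := exists_sign_perm hg
  have hab : ∀ e ∈ E, pr (signCo0 a) * e = e * pr (signCo0 a) := by
    rintro _ ⟨d, rfl⟩
    simp only [← map_mul, ← map_mul, ← signCo0_add, ← signCo0_add, add_comm]
  have h1 : ρ ∈ K := by
    refine mem_comap.2 (mem_centralizer_iff.2 fun e he => ?_)
    have h2 := h e he
    rw [map_mul] at h2
    show e * pr (permCo0 ρ) = pr (permCo0 ρ) * e
    have h3 : pr (signCo0 a) * (pr (permCo0 ρ) * e) = pr (signCo0 a) * (e * pr (permCo0 ρ)) := by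
      simp only [← mul_assoc, h2, ← mul_assoc, ← mul_assoc, hab e he]
    exact (mul_left_cancel h3).symm
  rw [K_eq_bot, mem_bot] at h1
  rw [h1, map_one, mul_one]
  exact ⟨a, rfl⟩

theorem conj_E (c : Spor.Co1) (hc : c * pr (signCo0 (q 0)) = pr (signCo0 (q 0)) * c) (e : Spor.Co1) (he : e ∈ E) :
    c * e * c⁻¹ ∈ E := by
  obtain ⟨g, hg, rfl⟩ := centralizer_dodecad_le (q 0) wt_q0 (mem_centralizer_singleton_iff.2 hc)
  obtain ⟨d, rfl⟩ := he
  obtain ⟨d', hd'⟩ := N_normalises g hg d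
  exact ⟨d', by simp only [← hd', map_mul, map_mul, map_inv]⟩

/-! ### the result -/

theorem w_pow : pr (permCo0 dbl) ^ 11 = 1 := by
  rw [← map_pow, ← map_pow, dbl_pow, map_one, map_one]

theorem w_ne : pr (permCo0 dbl) ≠ 1 := by
  intro h
  apply dbl_not_mem
  refine mem_comap.2 ?_
  show pr (permCo0 dbl) ∈ _
  rw [h]
  exact one_mem _

theorem w_order : orderOf (pr (permCo0 dbl)) = 11 := by
  have := Fact.mk (by norm_num : Nat.Prime 11)
  exact orderOf_eq_prime w_pow w_ne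

theorem w_real : IsConj (pr (permCo0 dbl)) (pr (permCo0 dbl))⁻¹ := by
  rw [isConj_iff]
  refine ⟨pr (permCo0 inv24), ?_⟩
  ((conv => enter [@2, @6]; rw [← map_inv]); (conv => enter [@2, @5]; rw [← map_mul]); rewrite [← map_mul]; (conv => enter [@2, @6, @6]; rw [← map_inv]); (conv => enter [@2, @6, @5]; rw [← map_mul]); rewrite [← map_mul, inv_dbl, map_inv, map_inv]; with_reducible rfl)

theorem w_comm : pr (permCo0 dbl) * pr (signCo0 (q 0)) = pr (signCo0 (q 0)) * pr (permCo0 dbl) := by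
  rw [← map_mul, perm_mul_sign, wordPerm_dbl, map_mul]

theorem x_order : orderOf (pr (signCo0 (q 0))) = 2 := by
  have := Fact.mk Nat.prime_two
  refine orderOf_eq_prime ?_ ?_
  · rw [pow_two]
    exact E_sq _ ⟨q 0, rfl⟩
  · rw [Ne, pr_sign_eq_one_iff, wt_q0]
    omega

theorem card_co1 : Nat.card Spor.Co1 = 4157776806543360000 := Cfsg.Agent.S0399.result.2

theorem loc_model : Loc 11 Spor.Co1 := by
  have hfin : Finite Spor.Co1 := Nat.finite_of_card_ne_zero (by rw [card_co1]; norm_num)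
  refine loc_of (by norm_num) ?_ (w := pr (permCo0 dbl)) (by rw [w_order]) w_real
    (x := pr (signCo0 (q 0))) x_order ?_ E ?_ ?_ conj_E self_cent
  · rw [card_co1]
    norm_num
  · have h : orderOf (⟨pr (permCo0 dbl), mem_centralizer_singleton_iff.2 w_comm⟩ :
        centralizer ({pr (signCo0 (q 0))} : Set Spor.Co1)) = 11 := by
      rw [Subgroup.orderOf_mk, w_order]
    rw [← h]
    exact orderOf_dvd_natCard _
  · exact IsPGroup.of_card (n := 11) (by rw [card_E]; norm_num)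
  · rintro _ ⟨d, rfl⟩
    simp only [← map_mul, ← map_mul, ← signCo0_add, ← signCo0_add, add_comm]

theorem loc_co1 {G : Type u} [Group G] (h : Spor.IsoCo1 G) : Loc 11 G := by
  obtain ⟨e⟩ := h
  exact loc_model.congr e.symm

theorem card_of_co1 {G : Type u} [Group G] (h : Spor.IsoCo1 G) : Nat.card G = 4157776806543360000 := by
  obtain ⟨e⟩ := h
  rw [Nat.card_congr e.toEquiv]
  exact card_co1

end Cfsg.Agent.H682.EB.CoOne
end
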